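import Mathlib
import Cfsg.Agent.Lib.Helper5.SuzukiCharA

/-!
Additive bijections `A` of `GF(2^(2m+1))` compatible with the map `u ↦ θ(u) u` (`θ` the Tits
endomorphism) through an additive map `C` are of the form `u ↦ l σ(u)` with `σ` a field automorphism.
The proof goes through Hua's identity (author: helper5).
-/

set_option autoImplicit false

namespace Cfsg.Agent.Lib.Helper5.SuzSylAut

open Cfsg Cfsg.Agent.S0335 Cfsg.Agent.Lib.Helper5.Suzuki

section hua
variable {F : Type*} [Field F]

/-- Hua's identity in a field -/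
theorem hua_identity {a b : F} (ha : a ≠ 0) (hb : b ≠ 0) (hab : b⁻¹ ≠ a) :
    a - (a⁻¹ + (b⁻¹ - a)⁻¹)⁻¹ = a ^ 2 * b := by
  have h1 : b⁻¹ - a ≠ 0 := sub_ne_zero.2 hab
  have h2 : 1 - a * b ≠ 0 := by
    intro h
    apply hab
    have : a * b = 1 := by linear_combination -h
    exact (eq_inv_of_mul_eq_one_left this).symm
  have h3 : a⁻¹ + (b⁻¹ - a)⁻¹ = (a * (1 - a * b))⁻¹ := by
    field_simp
    ring
  rw [h3, inv_inv]
  ring

end hua

section main
variable {F : Type*} [Field F] [Fintype F] [CharP F 2]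

/-- an additive injective map `C` with `C 1 = 1` whose conjugate under inversion is additive is
multiplicative -/
theorem mul_of_inv_conj (C : F → F) (hC : ∀ s t, C (s + t) = C s + C t)
    (hinj : Function.Injective C) (hC1 : C 1 = 1)
    (hC' : ∀ s t, (C (s + t)⁻¹)⁻¹ = (C s⁻¹)⁻¹ + (C t⁻¹)⁻¹) :
    ∀ a b, C (a * b) = C a * C b := by
  have h2 : (2 : F) = 0 := CharTwo.two_eq_zero
  have hC0 : C 0 = 0 := by
    have := hC 0 0
    rw [add_zero] at this
    linear_combination -this
  have hne : ∀ x, x ≠ 0 → C x ≠ 0 := fun x hx h => hx (hinj (h.trans hC0.symm))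
  have hCsub : ∀ s t, C (s - t) = C s - C t := by
    intro s t
    have := hC (s - t) t
    rw [sub_add_cancel] at this
    linear_combination -this
  have key : ∀ a b, C (a ^ 2 * b) = (C a) ^ 2 * (C b⁻¹)⁻¹ := by
    intro a b
    by_cases ha : a = 0
    · rw [ha, hC0]; simp [hC0]
    by_cases hb : b = 0
    · rw [hb, inv_zero, hC0]; simp [hC0]
    by_cases hab : b⁻¹ = a
    · have e : a ^ 2 * b = a := by
        rw [← hab]; field_simp
      rw [e, hab]
      have := hne a ha
      field_simp
    · have hA := hne a ha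
      have hB : C b⁻¹ ≠ 0 := hne _ (inv_ne_zero hb)
      have hAB : ((C b⁻¹)⁻¹)⁻¹ ≠ C a := by
        rw [inv_inv]
        exact fun h => hab (hinj h)
      rw [← hua_identity ha hb hab, hCsub, ← hua_identity hA (inv_ne_zero hB) hAB]
      congr 1
      have e1 : C (a⁻¹ + (b⁻¹ - a)⁻¹)⁻¹ = ((C (a⁻¹ + (b⁻¹ - a)⁻¹)⁻¹)⁻¹)⁻¹ := (inv_inv _).symm
      rw [e1, hC', inv_inv, inv_inv, hCsub, inv_inv]
  have hsq : ∀ a, C (a ^ 2) = (C a) ^ 2 := by
    intro a
    have := key a 1
    rwa [mul_one, inv_one, hC1, inv_one, mul_one] at this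
  have hinv : ∀ b, (C b⁻¹)⁻¹ = C b := by
    intro b
    have := key 1 b
    rw [one_pow, one_mul, hC1, one_pow, one_mul] at this
    exact this.symm
  intro a b
  obtain ⟨r, hr⟩ := FiniteField.isSquare_of_char_two (ringChar.eq F 2) a
  rw [hr, ← pow_two, key, hinv, hsq]

variable (m : ℕ) (hF : Fintype.card F = 2 ^ (2 * m + 1))
include hF

/-- an additive bijection which respects the hyperplane `{θ(t) + t}` up to scalars has an additive
conjugate under inversion -/
theorem inv_conj_additive (C : F → F) (hC : ∀ s t, C (s + t) = C s + C t)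
    (hbij : Function.Bijective C)
    (hT : ∀ w s, w ≠ 0 → s ∈ (trHom m : F →+ F).range → C (w * s) / C w ∈ (trHom m : F →+ F).range) :
    ∀ s t, (C (s + t)⁻¹)⁻¹ = (C s⁻¹)⁻¹ + (C t⁻¹)⁻¹ := by
  classical
  have h2 : (2 : F) = 0 := CharTwo.two_eq_zero
  have hidx := index_range_trHom m hF (F := F)
  set T : AddSubgroup F := (trHom m : F →+ F).range with hTdef
  have hC0 : C 0 = 0 := by
    have := hC 0 0
    rw [add_zero] at this
    linear_combination -this
  have hne : ∀ x, x ≠ 0 → C x ≠ 0 := fun x hx h => hx (hbij.1 (h.trans hC0.symm))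
  -- the converse of `hT`
  have hT' : ∀ w s, w ≠ 0 → C (w * s) / C w ∈ T → s ∈ T := by
    intro w s hw hs
    let g : F →+ F :=
      { toFun := fun s => C (w * s) / C w
        map_zero' := by rw [mul_zero, hC0, zero_div]
        map_add' := fun s t => by rw [mul_add, hC, add_div] }
    have hg : Function.Injective g := by
      intro s t hst
      have h1 : C (w * s) = C (w * t) := by
        have := hne w hw
        have h3 : C (w * s) / C w = C (w * t) / C w := hst
        field_simp at h3
        exact h3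
      exact mul_left_cancel₀ hw (hbij.1 h1)
    have hle : T.map g ≤ T := by
      rintro _ ⟨s, hs, rfl⟩
      exact hT w s hw hs
    have hcard : Nat.card (T.map g) = Nat.card T := AddSubgroup.card_map_of_injective hg
    have heq : T.map g = T := AddSubgroup.eq_of_le_of_card_ge hle (le_of_eq hcard.symm)
    have : g s ∈ T.map g := by rw [heq]; exact hs
    obtain ⟨s', hs', hss'⟩ := this
    rw [← hg hss']
    exact hs'
  have hstar : ∀ z v, (z * v ∈ T ↔ C z * (C v⁻¹)⁻¹ ∈ T) := by
    intro z v
    by_cases hv : v = 0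
    · rw [hv, mul_zero, inv_zero, hC0, inv_zero, mul_zero]
    · have hw : v⁻¹ ≠ 0 := inv_ne_zero hv
      have e : C z * (C v⁻¹)⁻¹ = C (v⁻¹ * (z * v)) / C v⁻¹ := by
        rw [div_eq_mul_inv]
        congr 2
        field_simp
      rw [e]
      exact ⟨fun h => hT _ _ hw h, fun h => hT' _ _ hw h⟩
  intro v v'
  set Δ : F := (C (v + v')⁻¹)⁻¹ + (C v⁻¹)⁻¹ + (C v'⁻¹)⁻¹ with hΔ
  have hΔ0 : Δ = 0 := by
    by_contra hne0
    obtain ⟨z, hz⟩ := hbij.2 Δ⁻¹
    have h1 : C z * Δ = 1 := by rw [hz]; exact inv_mul_cancel₀ hne0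
    have h3 : C z * Δ ∈ T := by
      have e : C z * Δ = C z * (C (v + v')⁻¹)⁻¹ + C z * (C v⁻¹)⁻¹ + C z * (C v'⁻¹)⁻¹ := by
        rw [hΔ]; ring
      rw [e, AddSubgroup.add_mem_iff_of_index_two hidx, AddSubgroup.add_mem_iff_of_index_two hidx,
        ← hstar, ← hstar, ← hstar, ← AddSubgroup.add_mem_iff_of_index_two hidx,
        ← AddSubgroup.add_mem_iff_of_index_two hidx]
      have : z * (v + v') + z * v + z * v' = 0 := by linear_combination (z * v + z * v') * h2
      rw [this]
      exact T.zero_mem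
    rw [h1] at h3
    exact one_not_mem_range m hF h3
  linear_combination hΔ0 - ((C v⁻¹)⁻¹ + (C v'⁻¹)⁻¹) * h2

/-- normalised form: `A 1 = 1` -/
theorem semilinear_sg_normalized (A C : F → F) (hA : ∀ u v, A (u + v) = A u + A v)
    (hAinj : Function.Injective A) (hA1 : A 1 = 1) (hC : ∀ s t, C (s + t) = C s + C t)
    (hN : ∀ u, sg m (A u) * A u = C (sg m u * u)) :
    (∀ u v, C (u * v) = C u * C v) ∧ (∀ u, A u = C u) ∧ Function.Bijective C := by
  have h2 : (2 : F) = 0 := CharTwo.two_eq_zero
  have hA0 : A 0 = 0 := by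
    have := hA 0 0
    rw [add_zero] at this
    linear_combination -this
  have hC0 : C 0 = 0 := by
    have := hC 0 0
    rw [add_zero] at this
    linear_combination -this
  have hAne : ∀ x, x ≠ 0 → A x ≠ 0 := fun x hx h => hx (hAinj (h.trans hA0.symm))
  have hC1 : C 1 = 1 := by
    have := hN 1
    rw [hA1, sg_one, mul_one] at this
    exact this.symm
  have hCsub : ∀ s t, C (s - t) = C s - C t := by
    intro s t
    have := hC (s - t) t
    rw [sub_add_cancel] at this
    linear_combination -this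
  -- surjectivity of the norm
  have hNsurj : ∀ t : F, ∃ u : F, sg m u * u = t := by
    intro t
    by_cases ht : t = 0
    · exact ⟨0, by rw [ht, mul_zero]⟩
    · obtain ⟨α, hα⟩ := exists_sg_mul_self m hF t ht
      exact ⟨α, hα⟩
  have hCinj : Function.Injective C := by
    intro s t hst
    have h0 : C (s - t) = 0 := by rw [hCsub, hst, sub_self]
    obtain ⟨u, hu⟩ := hNsurj (s - t)
    rw [← hu, ← hN] at h0
    have hAu : A u = 0 := by
      rcases mul_eq_zero.1 h0 with h | h
      · exact sg_eq_zero m _ h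
      · exact h
    have hu0 : u = 0 := by
      by_contra hne
      exact hAne u hne hAu
    rw [hu0, mul_zero] at hu
    exact sub_eq_zero.1 hu.symm
  have hCbij : Function.Bijective C := ⟨hCinj, Finite.injective_iff_surjective.1 hCinj⟩
  -- polarisation
  have hpol : ∀ u v, sg m (A u) * A v + sg m (A v) * A u = C (sg m u * v + sg m v * u) := by
    intro u v
    have h1 : sg m (u + v) * (u + v) = sg m u * u + sg m v * v + (sg m u * v + sg m v * u) := by
      rw [sg_add]; ring
    have h3 := hN (u + v)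
    rw [h1, hC, hC, ← hN, ← hN, hA, sg_add] at h3
    linear_combination h3
  have hT : ∀ w s, w ≠ 0 → s ∈ (trHom m : F →+ F).range →
      C (w * s) / C w ∈ (trHom m : F →+ F).range := by
    rintro w _ hw ⟨t, rfl⟩
    obtain ⟨u, hu⟩ := hNsurj w
    have hu0 : u ≠ 0 := by
      rintro rfl
      rw [mul_zero] at hu
      exact hw hu.symm
    have hAu := hAne u hu0
    have hsAu : sg m (A u) ≠ 0 := fun h => hAu (sg_eq_zero m _ h)
    refine ⟨A (t * u) / A u, ?_⟩
    rw [trHom_apply, trHom_apply, ← hu, ← hN]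
    have e : sg m u * u * (sg m t + t) = sg m u * (t * u) + sg m (t * u) * u := by
      rw [sg_mul]; ring
    rw [e, ← hpol, sg_div]
    field_simp
    ring
  have hC' := inv_conj_additive m hF C hC hCbij hT
  have hmul := mul_of_inv_conj C hC hCinj hC1 hC'
  refine ⟨hmul, ?_, hCbij⟩
  intro u
  by_cases hu : u = 0
  · rw [hu, hA0, hC0]
  have hCu : C u ≠ 0 := fun h => hu (hCinj (h.trans hC0.symm))
  apply sg_mul_self_inj m hF hCu
  rw [hN, hmul]
  congr 1
  -- `C` commutes with `sg`
  unfold sg
  generalize 2 ^ (m + 1) = k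
  induction k with
  | zero => rw [pow_zero, pow_zero, hC1]
  | succ k ih => rw [pow_succ, hmul, ih, pow_succ]

/-- additive bijections compatible with the norm `u ↦ θ(u) u` are semilinear -/
theorem semilinear_of_sg_norm (A C : F → F) (hA : ∀ u v, A (u + v) = A u + A v)
    (hAinj : Function.Injective A) (hC : ∀ s t, C (s + t) = C s + C t)
    (hN : ∀ u, sg m (A u) * A u = C (sg m u * u)) :
    ∃ (l : F) (σ : F ≃+* F), l ≠ 0 ∧ (∀ u, A u = l * σ u) ∧ ∀ t, C t = sg m l * l * σ t := by
  have hA0 : A 0 = 0 := by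
    have := hA 0 0
    rw [add_zero] at this
    linear_combination -this
  have hl : A 1 ≠ 0 := by
    intro h
    have := hAinj (h.trans hA0.symm)
    exact one_ne_zero this
  set l : F := A 1 with hl'
  have hsl : sg m l ≠ 0 := fun h => hl (sg_eq_zero m _ h)
  have hll : sg m l * l ≠ 0 := mul_ne_zero hsl hl
  obtain ⟨hmul, hAC, hbij⟩ := semilinear_sg_normalized m hF (fun u => l⁻¹ * A u)
    (fun t => (sg m l * l)⁻¹ * C t)
    (fun u v => by simp only [hA]; ring)
    (fun u v h => hAinj (mul_left_cancel₀ (inv_ne_zero hl) h))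
    (inv_mul_cancel₀ hl)
    (fun s t => by simp only [hC s t]; ring)
    (fun u => by
      rw [sg_mul, sg_inv, ← hN]
      field_simp)
  have hC0 : C 0 = 0 := by
    have := hC 0 0
    rw [add_zero] at this
    linear_combination -this
  let σ₀ : F →+* F :=
    { toFun := fun t => (sg m l * l)⁻¹ * C t
      map_one' := by
        have := hAC 1
        rw [← this]
        exact inv_mul_cancel₀ hl
      map_mul' := hmul
      map_zero' := by rw [hC0, mul_zero]
      map_add' := fun s t => by rw [hC]; ring }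
  refine ⟨l, RingEquiv.ofBijective σ₀ hbij, hl, ?_, ?_⟩
  · intro u
    show A u = l * ((sg m l * l)⁻¹ * C u)
    have := hAC u
    rw [← this, mul_inv_cancel_left₀ hl]
  · intro t
    show C t = sg m l * l * ((sg m l * l)⁻¹ * C t)
    rw [mul_inv_cancel_left₀ hll]

end main

end Cfsg.Agent.Lib.Helper5.SuzSylAut
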