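import Mathlib
import Cfsg.Agent.Lib.Helper5.SuzSylAut.Hua
import Cfsg.Agent.Lib.Helper5.SuzukiSylow
import Cfsg.Agent.Lib.Helper5.U3Even.AutS
import Cfsg.Prelude.Def_Transfer
import Cfsg.Prelude.Def_Solvable

/-!
The automorphism group of the Sylow 2-subgroup of `Sz(q)`, `q = 2^(2m+1)`: order
`2^(n²) · n (q - 1)` with `n = 2m+1`, and `O₂` elementary abelian of order `2^(n²)` (author: helper5).
-/

set_option autoImplicit false
set_option linter.unusedSectionVars false

namespace Cfsg.Agent.Lib.Helper5.SuzSylAut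

open Cfsg Cfsg.Agent.S0335 Cfsg.Agent.Lib.Helper5.Suzuki Cfsg.Agent.Lib.Helper5.U3Even

/-- coordinates on a Suzuki `2`-group of type `A(n, θ)` -/
structure SzCoords (F : Type*) [Field F] [Fintype F] (m : ℕ) (P : Type*) [Group P] where
  τ : F → F → P
  hmul : ∀ a b a' b' : F, τ a b * τ a' b' = τ (a + a') (b + b' + sg m a * a')
  hbij : Function.Bijective (fun p : F × F => τ p.1 p.2)

namespace SzCoords

variable {F : Type*} [Field F] [Fintype F] {m : ℕ} {P : Type*} [Group P] (c : SzCoords F m P)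

/-- the coordinate bijection -/
noncomputable def e : F × F ≃ P := Equiv.ofBijective _ c.hbij

/-- first coordinate -/
noncomputable def a (x : P) : F := (c.e.symm x).1

/-- second coordinate -/
noncomputable def b (x : P) : F := (c.e.symm x).2

theorem tau_ab (x : P) : c.τ (c.a x) (c.b x) = x := c.e.apply_symm_apply x

theorem a_tau (u v : F) : c.a (c.τ u v) = u := by
  have : c.e.symm (c.τ u v) = (u, v) := c.e.symm_apply_apply (u, v)
  show (c.e.symm (c.τ u v)).1 = u
  rw [this]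

theorem b_tau (u v : F) : c.b (c.τ u v) = v := by
  have : c.e.symm (c.τ u v) = (u, v) := c.e.symm_apply_apply (u, v)
  show (c.e.symm (c.τ u v)).2 = v
  rw [this]

theorem ext_ab {x y : P} (h1 : c.a x = c.a y) (h2 : c.b x = c.b y) : x = y := by
  rw [← c.tau_ab x, ← c.tau_ab y, h1, h2]

theorem a_mul (x y : P) : c.a (x * y) = c.a x + c.a y := by
  conv_lhs => rw [← c.tau_ab x, ← c.tau_ab y, c.hmul, c.a_tau]

theorem b_mul (x y : P) : c.b (x * y) = c.b x + c.b y + sg m (c.a x) * c.a y := by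
  conv_lhs => rw [← c.tau_ab x, ← c.tau_ab y, c.hmul, c.b_tau]

include c in
theorem finite : Finite P := Finite.of_equiv _ c.e

theorem sg_ringEquiv (σ : F ≃+* F) (u : F) : σ (sg m u) = sg m (σ u) := by
  unfold sg
  rw [map_pow]

variable [CharP F 2]

theorem dbl (u : F) : u + u = 0 := CharTwo.add_self_eq_zero u

variable (hF : Fintype.card F = 2 ^ (2 * m + 1))
include hF

theorem mem_center_iff (hm : 1 ≤ m) (x : P) : x ∈ Subgroup.center P ↔ c.a x = 0 := by
  rw [center_eq_zSub m hF c.τ c.hmul c.hbij hm]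
  constructor
  · rintro ⟨d, rfl⟩
    exact c.a_tau 0 d
  · intro h
    refine ⟨c.b x, ?_⟩
    rw [← h, c.tau_ab]

theorem a_aut_center (hm : 1 ≤ m) (φ : P ≃* P) (x : P) (hx : c.a x = 0) : c.a (φ x) = 0 := by
  rw [← c.mem_center_iff hF hm] at hx ⊢
  have h := (Subgroup.centerCharacteristic (G := P)).fixed φ.symm
  rw [← h, Subgroup.mem_comap]
  show φ.symm (φ x) ∈ Subgroup.center P
  rw [MulEquiv.symm_apply_apply]
  exact hx

theorem a_aut_eq_zero (hm : 1 ≤ m) (φ : P ≃* P) (x : P) (hx : c.a (φ x) = 0) : c.a x = 0 := by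
  have := c.a_aut_center hF hm φ.symm (φ x) hx
  rwa [MulEquiv.symm_apply_apply] at this

/-- the map induced on the first coordinate -/
noncomputable def indFun (φ : P ≃* P) (u : F) : F := c.a (φ (c.τ u 0))

theorem tau_split (u v : F) : c.τ u v = c.τ u 0 * c.τ 0 v := by
  rw [c.hmul, add_zero, zero_add, mul_zero, add_zero]

theorem indFun_apply (hm : 1 ≤ m) (φ : P ≃* P) (x : P) : c.indFun φ (c.a x) = c.a (φ x) := by
  conv_rhs => rw [← c.tau_ab x, c.tau_split hF, map_mul, c.a_mul,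
    c.a_aut_center hF hm φ (c.τ 0 (c.b x)) (c.a_tau 0 _), add_zero]
  rfl

theorem indFun_add (hm : 1 ≤ m) (φ : P ≃* P) (u v : F) :
    c.indFun φ (u + v) = c.indFun φ u + c.indFun φ v := by
  have h1 : c.a (c.τ u 0 * c.τ v 0) = u + v := by rw [c.a_mul, c.a_tau, c.a_tau]
  rw [← h1, c.indFun_apply hF hm, map_mul, c.a_mul]
  rfl

theorem indFun_mul (hm : 1 ≤ m) (φ ψ : MulAut P) (u : F) :
    c.indFun (φ * ψ) u = c.indFun φ (c.indFun ψ u) := by
  show c.a (φ (ψ (c.τ u 0))) = c.indFun φ (c.a (ψ (c.τ u 0)))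
  rw [c.indFun_apply hF hm]

theorem indFun_one (u : F) : c.indFun (1 : MulAut P) u = u := by
  show c.a (c.τ u 0) = u
  exact c.a_tau u 0

theorem indFun_injective (hm : 1 ≤ m) (φ : P ≃* P) : Function.Injective (c.indFun φ) := by
  intro u v huv
  have h1 : c.indFun φ (u + v) = 0 := by rw [c.indFun_add hF hm, huv, dbl]
  have h2 : c.a (c.τ (u + v) 0) = 0 := c.a_aut_eq_zero hF hm φ _ h1
  rw [c.a_tau] at h2
  have : u = u + (v + v) := by rw [dbl, add_zero]
  rw [this, ← add_assoc, h2, zero_add]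

/-- the map induced on the centre -/
noncomputable def cenFun (φ : P ≃* P) (t : F) : F := c.b (φ (c.τ 0 t))

theorem cenFun_add (hm : 1 ≤ m) (φ : P ≃* P) (s t : F) :
    c.cenFun φ (s + t) = c.cenFun φ s + c.cenFun φ t := by
  have h1 : c.τ 0 (s + t) = c.τ 0 s * c.τ 0 t := by
    rw [c.hmul, add_zero, sg_zero, zero_mul, add_zero]
  show c.b (φ (c.τ 0 (s + t))) = _
  rw [h1, map_mul, c.b_mul, c.a_aut_center hF hm φ (c.τ 0 t) (c.a_tau 0 _), mul_zero, add_zero]
  rfl

theorem norm_rel (φ : P ≃* P) (u : F) :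
    sg m (c.indFun φ u) * c.indFun φ u = c.cenFun φ (sg m u * u) := by
  have h1 : c.τ 0 (sg m u * u) = c.τ u 0 * c.τ u 0 := by
    rw [c.hmul, dbl, add_zero, zero_add]
  show _ = c.b (φ (c.τ 0 (sg m u * u)))
  rw [h1, map_mul, c.b_mul, dbl, zero_add]
  rfl

/-- automorphisms are semilinear on the coordinates -/
theorem aut_semilinear (hm : 1 ≤ m) (φ : P ≃* P) :
    ∃ (l : F) (σ : F ≃+* F), l ≠ 0 ∧ (∀ x, c.a (φ x) = l * σ (c.a x)) ∧
      ∀ t, c.cenFun φ t = sg m l * l * σ t := by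
  obtain ⟨l, σ, hl, h1, h2⟩ := semilinear_of_sg_norm m hF (c.indFun φ) (c.cenFun φ)
    (c.indFun_add hF hm φ) (c.indFun_injective hF hm φ) (c.cenFun_add hF hm φ) (c.norm_rel hF φ)
  exact ⟨l, σ, hl, fun x => by rw [← c.indFun_apply hF hm, h1], h2⟩

/-- the shape of an automorphism -/
theorem aut_form (hm : 1 ≤ m) (φ : P ≃* P) :
    ∃ (l : Fˣ) (σ : F ≃+* F) (g : F →+ F), ∀ x,
      c.a (φ x) = l * σ (c.a x) ∧ c.b (φ x) = sg m (l : F) * l * σ (c.b x) + g (c.a x) := by
  obtain ⟨l, σ, hl, h1, h2⟩ := c.aut_semilinear hF hm φ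
  have hb : ∀ x, c.b (φ x) = sg m l * l * σ (c.b x) + c.b (φ (c.τ (c.a x) 0)) := by
    intro x
    conv_lhs => rw [← c.tau_ab x, c.tau_split hF, map_mul, c.b_mul,
      c.a_aut_center hF hm φ (c.τ 0 (c.b x)) (c.a_tau 0 _), mul_zero, add_zero]
    have := h2 (c.b x)
    unfold cenFun at this
    rw [this]
    ring
  have hg : ∀ u v, c.b (φ (c.τ (u + v) 0)) = c.b (φ (c.τ u 0)) + c.b (φ (c.τ v 0)) := by
    intro u v
    have e1 : c.τ u 0 * c.τ v 0 = c.τ (u + v) (sg m u * v) := by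
      rw [c.hmul, add_zero, zero_add]
    have e2 : c.b (φ (c.τ u 0 * c.τ v 0)) = c.b (φ (c.τ (u + v) (sg m u * v))) := by rw [e1]
    rw [map_mul, c.b_mul, h1, h1, c.a_tau, c.a_tau, hb (c.τ (u + v) (sg m u * v)), c.a_tau,
      c.b_tau, map_mul, sg_ringEquiv, sg_mul] at e2
    linear_combination -e2
  refine ⟨Units.mk0 l hl, σ,
    { toFun := fun u => c.b (φ (c.τ u 0))
      map_zero' := by
        have := hg 0 0
        rw [add_zero] at this
        have h3 := dbl (c.b (φ (c.τ 0 0)))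
        rw [← this] at h3
        exact h3
      map_add' := hg }, fun x => ⟨h1 x, hb x⟩⟩

/-! ### the standard automorphisms -/

/-- the map `(a, b) ↦ (l σ a, θ(l) l σ b + g a)` -/
noncomputable def mkFun (l : F) (σ : F ≃+* F) (g : F →+ F) (x : P) : P :=
  c.τ (l * σ (c.a x)) (sg m l * l * σ (c.b x) + g (c.a x))

theorem mkFun_mul (l : F) (σ : F ≃+* F) (g : F →+ F) (x y : P) :
    c.mkFun l σ g (x * y) = c.mkFun l σ g x * c.mkFun l σ g y := by
  unfold mkFun
  rw [c.hmul, c.a_mul, c.b_mul]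
  congr 1
  · rw [map_add]; ring
  · rw [map_add, map_add, map_add, map_mul, sg_ringEquiv, sg_mul]
    ring

theorem mkFun_injective (l : F) (hl : l ≠ 0) (σ : F ≃+* F) (g : F →+ F) :
    Function.Injective (c.mkFun l σ g) := by
  intro x y h
  unfold mkFun at h
  obtain ⟨h1, h2⟩ := tau_inj m c.τ c.hmul c.hbij h
  have ha : c.a x = c.a y := σ.injective (mul_left_cancel₀ hl h1)
  rw [ha] at h2
  have hsl : sg m l ≠ 0 := fun h => hl (sg_eq_zero m _ h)
  have hb : c.b x = c.b y :=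
    σ.injective (mul_left_cancel₀ (mul_ne_zero hsl hl) (add_right_cancel h2))
  exact c.ext_ab ha hb

/-- the standard automorphism with parameters `(l, σ, g)` -/
noncomputable def mkAut (l : Fˣ) (σ : F ≃+* F) (g : F →+ F) : MulAut P :=
  haveI := c.finite
  MulEquiv.ofBijective (MonoidHom.mk' (c.mkFun l σ g) (c.mkFun_mul hF l σ g))
    ((Finite.injective_iff_bijective).1 (c.mkFun_injective hF l l.ne_zero σ g))

theorem mkAut_apply (l : Fˣ) (σ : F ≃+* F) (g : F →+ F) (x : P) :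
    c.mkAut hF l σ g x = c.mkFun l σ g x := rfl

theorem a_mkAut (l : Fˣ) (σ : F ≃+* F) (g : F →+ F) (x : P) :
    c.a (c.mkAut hF l σ g x) = l * σ (c.a x) := by
  rw [mkAut_apply]; unfold mkFun; rw [c.a_tau]

theorem b_mkAut (l : Fˣ) (σ : F ≃+* F) (g : F →+ F) (x : P) :
    c.b (c.mkAut hF l σ g x) = sg m (l : F) * l * σ (c.b x) + g (c.a x) := by
  rw [mkAut_apply]; unfold mkFun; rw [c.b_tau]

/-! ### the induced action on `P / Z(P)` -/

noncomputable def indPerm (hm : 1 ≤ m) (φ : MulAut P) : Equiv.Perm F where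
  toFun := c.indFun φ
  invFun := c.indFun φ⁻¹
  left_inv u := by rw [← c.indFun_mul hF hm, inv_mul_cancel, c.indFun_one hF]
  right_inv u := by rw [← c.indFun_mul hF hm, mul_inv_cancel, c.indFun_one hF]

/-- the induced action on `F` as a homomorphism -/
noncomputable def indHom (hm : 1 ≤ m) : MulAut P →* Equiv.Perm F where
  toFun := c.indPerm hF hm
  map_one' := by
    ext u
    exact c.indFun_one hF u
  map_mul' φ ψ := by
    ext u
    exact c.indFun_mul hF hm φ ψ u

theorem indHom_apply (hm : 1 ≤ m) (φ : MulAut P) (x : P) :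
    c.indHom hF hm φ (c.a x) = c.a (φ x) :=
  c.indFun_apply hF hm φ x

theorem mem_ker_indHom (hm : 1 ≤ m) (φ : MulAut P) :
    φ ∈ (c.indHom hF hm).ker ↔ ∀ x, c.a (φ x) = c.a x := by
  rw [MonoidHom.mem_ker]
  constructor
  · intro h x
    rw [← c.indHom_apply hF hm, h]
    rfl
  · intro h
    ext u
    show c.indHom hF hm φ u = u
    rw [← c.a_tau u 0, c.indHom_apply, h]

theorem range_indHom (hm : 1 ≤ m) :
    ((c.indHom hF hm).range : Set (Equiv.Perm F)) = Set.range (gPerm (F := F)) := by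
  ext π
  constructor
  · rintro ⟨φ, rfl⟩
    obtain ⟨l, σ, g, h⟩ := c.aut_form hF hm φ
    refine ⟨⟨l, σ⟩, ?_⟩
    ext u
    rw [gPerm_apply]
    show (l : F) * σ u = c.indHom hF hm φ u
    rw [← c.a_tau u 0, c.indHom_apply, (h _).1, c.a_tau]
  · rintro ⟨⟨l, σ⟩, rfl⟩
    refine ⟨c.mkAut hF l σ 0, ?_⟩
    ext u
    rw [gPerm_apply]
    show c.indHom hF hm (c.mkAut hF l σ 0) u = (l : F) * σ u
    rw [← c.a_tau u 0, c.indHom_apply, c.a_mkAut, c.a_tau]

theorem card_range_indHom (hm : 1 ≤ m) :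
    Nat.card (c.indHom hF hm).range = Nat.card (Fˣ × (F ≃+* F)) := by
  have h1 : Nat.card (c.indHom hF hm).range = Nat.card (Set.range (gPerm (F := F))) :=
    Nat.card_congr (Equiv.setCongr (c.range_indHom hF hm))
  rw [h1]
  exact (Nat.card_congr (Equiv.ofInjective _ gPerm_injective)).symm

/-! ### the kernel: central automorphisms -/

/-- the central automorphism attached to an additive map -/
noncomputable def shiftAut (g : F →+ F) : MulAut P := c.mkAut hF 1 (RingEquiv.refl F) g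

theorem a_shiftAut (g : F →+ F) (x : P) : c.a (c.shiftAut hF g x) = c.a x := by
  unfold shiftAut
  rw [c.a_mkAut, Units.val_one, one_mul]
  rfl

theorem b_shiftAut (g : F →+ F) (x : P) : c.b (c.shiftAut hF g x) = c.b x + g (c.a x) := by
  unfold shiftAut
  rw [c.b_mkAut, Units.val_one, sg_one, one_mul, one_mul]
  rfl

theorem shiftAut_mul (g g' : F →+ F) : c.shiftAut hF g * c.shiftAut hF g' = c.shiftAut hF (g + g') := by
  ext x
  apply c.ext_ab
  · show c.a (c.shiftAut hF g (c.shiftAut hF g' x)) = _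
    rw [c.a_shiftAut, c.a_shiftAut, c.a_shiftAut]
  · show c.b (c.shiftAut hF g (c.shiftAut hF g' x)) = _
    rw [c.b_shiftAut, c.b_shiftAut, c.a_shiftAut, c.b_shiftAut, AddMonoidHom.add_apply]
    ring

theorem shiftAut_injective : Function.Injective (c.shiftAut hF) := by
  intro g g' h
  ext u
  have h1 := congrArg c.b (DFunLike.congr_fun h (c.τ u 0))
  rw [c.b_shiftAut, c.b_shiftAut, c.a_tau] at h1
  exact add_left_cancel h1

theorem shiftAut_mem_ker (hm : 1 ≤ m) (g : F →+ F) : c.shiftAut hF g ∈ (c.indHom hF hm).ker := by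
  rw [c.mem_ker_indHom]
  intro x
  rw [c.a_shiftAut]

theorem exists_shift_of_mem_ker (hm : 1 ≤ m) (κ : MulAut P) (hκ : κ ∈ (c.indHom hF hm).ker) :
    ∃ g : F →+ F, c.shiftAut hF g = κ := by
  rw [c.mem_ker_indHom] at hκ
  obtain ⟨l, σ, g, h⟩ := c.aut_form hF hm κ
  have hl1 : (l : F) = 1 := by
    have := (h (c.τ 1 0)).1
    rw [hκ, c.a_tau, map_one, mul_one] at this
    exact this.symm
  have hσ : ∀ u, σ u = u := by
    intro u
    have := (h (c.τ u 0)).1
    rw [hκ, c.a_tau, hl1, one_mul] at this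
    exact this.symm
  refine ⟨g, ?_⟩
  ext x
  apply c.ext_ab
  · rw [c.a_shiftAut, hκ]
  · rw [c.b_shiftAut, (h x).2, hl1, hσ, sg_one, one_mul, one_mul]

theorem card_ker_indHom (hm : 1 ≤ m) :
    Nat.card (c.indHom hF hm).ker = 2 ^ ((2 * m + 1) ^ 2) := by
  have h1 : Nat.card (c.indHom hF hm).ker = Nat.card (F →+ F) := by
    symm
    apply Nat.card_congr
    refine Equiv.ofBijective (fun g => ⟨c.shiftAut hF g, c.shiftAut_mem_ker hF hm g⟩) ⟨?_, ?_⟩
    · intro g g' h
      exact c.shiftAut_injective hF (congrArg Subtype.val h)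
    · rintro ⟨κ, hκ⟩
      obtain ⟨g, hg⟩ := c.exists_shift_of_mem_ker hF hm κ hκ
      exact ⟨g, Subtype.ext hg⟩
  rw [h1]
  have := card_addMonoidHom_two (A := F) (B := F) (r := 2 * m + 1) (s := 2 * m + 1)
    (fun a => by rw [two_nsmul]; exact dbl a)
    (fun a => by rw [two_nsmul]; exact dbl a)
    (by rw [Nat.card_eq_fintype_card, hF])
    (by rw [Nat.card_eq_fintype_card, hF])
  rw [this]
  congr 1
  ring

theorem ker_elemAb (hm : 1 ≤ m) : Cfsg.IsElementaryAbelian 2 (c.indHom hF hm).ker := by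
  refine ⟨⟨⟨fun x y => ?_⟩⟩, fun κ hκ => ?_⟩
  · obtain ⟨g, hg⟩ := c.exists_shift_of_mem_ker hF hm x.1 x.2
    obtain ⟨g', hg'⟩ := c.exists_shift_of_mem_ker hF hm y.1 y.2
    apply Subtype.ext
    show x.1 * y.1 = y.1 * x.1
    rw [← hg, ← hg', c.shiftAut_mul, c.shiftAut_mul, add_comm]
  · obtain ⟨g, hg⟩ := c.exists_shift_of_mem_ker hF hm κ hκ
    rw [← hg, pow_two, c.shiftAut_mul]
    ext x
    apply c.ext_ab
    · rw [c.a_shiftAut]; rfl
    · rw [c.b_shiftAut, AddMonoidHom.add_apply, dbl, add_zero]; rfl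

/-! ### the order of the image is odd -/

theorem card_range_odd (hm : 1 ≤ m) : Odd (Nat.card (c.indHom hF hm).range) := by
  rw [c.card_range_indHom hF hm, Nat.card_prod, Nat.card_units, Nat.card_eq_fintype_card, hF,
    Coords.card_ringAut_two CharTwo.two_eq_zero (2 * m + 1) hF]
  apply Odd.mul
  · have : 1 ≤ 2 ^ (2 * m + 1) := Nat.one_le_two_pow
    have h2 : 2 ^ (2 * m + 1) = 2 * 2 ^ (2 * m) := by rw [pow_succ]; ring
    rw [Nat.odd_iff]
    omega
  · exact ⟨m, rfl⟩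

theorem le_ker_of_two (hm : 1 ≤ m) (N : Subgroup (MulAut P)) (hN2 : IsPGroup 2 N) :
    N ≤ (c.indHom hF hm).ker := by
  intro φ hφ
  obtain ⟨k, hk⟩ := hN2 ⟨φ, hφ⟩
  have hk' : φ ^ (2 ^ k) = 1 := by
    have := congrArg Subtype.val hk
    rwa [Subgroup.coe_pow] at this
  rw [MonoidHom.mem_ker]
  set π : (c.indHom hF hm).range := ⟨c.indHom hF hm φ, ⟨φ, rfl⟩⟩ with hπ
  have h1 : π ^ (2 ^ k) = 1 := by
    apply Subtype.ext
    rw [Subgroup.coe_pow]
    show c.indHom hF hm φ ^ 2 ^ k = 1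
    rw [← map_pow, hk', map_one]
  have : Finite (c.indHom hF hm).range := by
    have := c.finite
    infer_instance
  have h2 : orderOf π ∣ Nat.card (c.indHom hF hm).range := orderOf_dvd_natCard π
  have h3 : orderOf π ∣ 2 ^ k := orderOf_dvd_of_pow_eq_one h1
  have hcop : Nat.Coprime (2 ^ k) (Nat.card (c.indHom hF hm).range) := by
    apply Nat.Coprime.pow_left
    rw [Nat.coprime_two_left]
    exact c.card_range_odd hF hm
  have h4 : orderOf π ∣ 1 := by
    rw [← hcop]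
    exact Nat.dvd_gcd h3 h2
  have h5 : π = 1 := orderOf_eq_one_iff.1 (Nat.dvd_one.1 h4)
  exact congrArg Subtype.val h5

theorem pCore_eq_ker (hm : 1 ≤ m) : Cfsg.pCore 2 (MulAut P) = (c.indHom hF hm).ker := by
  apply le_antisymm
  · apply sSup_le
    rintro N ⟨_, hN2⟩
    exact c.le_ker_of_two hF hm N hN2
  · apply le_sSup
    refine ⟨inferInstance, ?_⟩
    intro κ
    refine ⟨1, ?_⟩
    apply Subtype.ext
    rw [Subgroup.coe_pow, pow_one]
    exact (c.ker_elemAb hF hm).2 κ.1 κ.2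

include c in
/-- the automorphism group of the Sylow `2`-subgroup of `Sz(2^(2m+1))` -/
theorem aut_main (hm : 1 ≤ m) :
    Cfsg.IsElementaryAbelian 2 (Cfsg.pCore 2 (MulAut P)) ∧
      Nat.card ↥(Cfsg.pCore 2 (MulAut P)) = 2 ^ ((2 * m + 1) ^ 2) ∧
      Nat.card (MulAut P) = 2 ^ ((2 * m + 1) ^ 2) * ((2 * m + 1) * (2 ^ (2 * m + 1) - 1)) := by
  rw [c.pCore_eq_ker hF hm]
  refine ⟨c.ker_elemAb hF hm, c.card_ker_indHom hF hm, ?_⟩
  rw [Subgroup.card_eq_card_quotient_mul_card_subgroup (c.indHom hF hm).ker,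
    c.card_ker_indHom hF hm,
    Nat.card_congr (QuotientGroup.quotientKerEquivRange (c.indHom hF hm)).toEquiv,
    c.card_range_indHom hF hm, Nat.card_prod, Nat.card_units, Nat.card_eq_fintype_card, hF,
    Coords.card_ringAut_two CharTwo.two_eq_zero (2 * m + 1) hF]
  ring

end SzCoords

end Cfsg.Agent.Lib.Helper5.SuzSylAut
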